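import Cfsg.Agent.H283.Fxo.Two

/-!
# S5719, `|A|` odd, orthogonal groups: one coarse block, the end game (helper103)

`Hm Q θ t n` : `θ² = tθ - n`, `Q(θv) = n Q(v)`, `polar Q (θv) v = t Q(v)`, `t² - 4n ≠ 0` (a hermitian structure over the
quadratic étale algebra `F[θ]`). Then there is an involution of `Ω(V) = E Q`, not a scalar, commuting with `θ`, and `E Q`
does not normalise `F[θ]`.
-/

set_option autoImplicit false

namespace Cfsg.Agent.H103.IFO

open QuadraticMap Module
open Cfsg.Agent.LieClassical.OrthCore Cfsg.Agent.LieClassical.OrthTrans Cfsg.Agent.LieClassical.OrthSimple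

variable {F V : Type*} [Field F] [AddCommGroup V] [Module F V]

/-- a hermitian structure over `F[θ]` -/
structure Hm (Q : QuadraticForm F V) (θ : Module.End F V) (t n : F) : Prop where
  sq : ∀ v, θ (θ v) = t • θ v - n • v
  nrm : ∀ v, Q (θ v) = n * Q v
  tr : ∀ v, polar Q (θ v) v = t * Q v
  disc : t * t - 4 * n ≠ 0

section

variable {Q : QuadraticForm F V} {θ : Module.End F V} {t n : F} (h : Hm Q θ t n)

include h

theorem Hm.pol (v w : V) : polar Q (θ v) (θ w) = n * polar Q v w := by
  simp only [polar]
  rw [← map_add, h.nrm, h.nrm, h.nrm]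
  ring

theorem Hm.adj (v w : V) : polar Q v (θ w) = t * polar Q v w - polar Q (θ v) w := by
  have h1 := h.tr (v + w)
  rw [map_add, polar_add_left, polar_add_right, polar_add_right, h.tr, h.tr, Q_add,
    polar_comm Q (θ w) v] at h1
  linear_combination h1

theorem Hm.tr' (v : V) : polar Q v (θ v) = t * Q v := by
  rw [polar_comm, h.tr]

theorem Hm.comb (a b : F) (v : V) : Q (a • v + b • θ v) = (a * a + t * a * b + n * b * b) * Q v := by
  rw [Q_add, QuadraticMap.map_smul, QuadraticMap.map_smul, polar_smul_left, polar_smul_right, h.tr', h.nrm]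
  simp only [smul_eq_mul]
  ring

/-- the norm form is universal -/
theorem Hm.universal [Finite F] (c : F) : ∃ a b : F, a * a + t * a * b + n * b * b = c := by
  have := Fintype.ofFinite F
  by_cases h2 : (2 : F) = 0
  · have : CharP F 2 := CharTwo.of_one_ne_zero_of_two_eq_zero one_ne_zero h2
    obtain ⟨d, hd⟩ := FiniteField.isSquare_of_char_two (ringChar.eq F 2) c
    exact ⟨d, 0, by rw [hd]; ring⟩
  · have hodd : Fintype.card F % 2 = 1 := by
      have h5 : ringChar F ≠ 2 := by
        intro h
        apply h2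
        have h6 : ((2 : ℕ) : F) = 0 := by
          rw [← h]
          exact ringChar.Nat.cast_ringChar
        exact_mod_cast h6
      exact FiniteField.odd_card_of_char_ne_two h5
    have hd := h.disc
    obtain ⟨x, y, hxy⟩ := FiniteField.exists_root_sum_quadratic
      (f := Polynomial.C (1 : F) * Polynomial.X ^ 2 - Polynomial.C (4 * c))
      (g := Polynomial.C (-(t * t - 4 * n)) * Polynomial.X ^ 2)
      (by
        rw [Polynomial.degree_sub_C]
        · exact Polynomial.degree_C_mul_X_pow 2 one_ne_zero
        · rw [Polynomial.degree_C_mul_X_pow 2 one_ne_zero]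
          norm_num)
      (Polynomial.degree_C_mul_X_pow 2 (neg_ne_zero.2 hd)) hodd
    simp only [Polynomial.eval_sub, Polynomial.eval_mul, Polynomial.eval_C, Polynomial.eval_pow,
      Polynomial.eval_X] at hxy
    refine ⟨(x - t * y) / 2, y, ?_⟩
    field_simp
    linear_combination hxy

/-- scaling a nonsingular vector in its `F[θ]`-line -/
theorem Hm.exists_norm [Finite F] {u : V} (hu : Q u ≠ 0) (c : F) : ∃ a b : F, Q (a • u + b • θ u) = c := by
  obtain ⟨a, b, hab⟩ := h.universal (c / Q u)
  exact ⟨a, b, by rw [h.comb, hab, div_mul_cancel₀ _ hu]⟩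

/-- `θ u` is not a multiple of a nonsingular `u` -/
theorem Hm.indep {u : V} (hu : Q u ≠ 0) {a b : F} (hab : a • u + b • θ u = 0) : a = 0 ∧ b = 0 := by
  have h1 : polar Q u (a • u + b • θ u) = 0 := by rw [hab, polar_zero_right]
  have h2 : polar Q (θ u) (a • u + b • θ u) = 0 := by rw [hab, polar_zero_right]
  rw [polar_add_right, polar_smul_right, polar_smul_right, polar_self', h.tr'] at h1
  rw [polar_add_right, polar_smul_right, polar_smul_right, polar_self', h.tr, h.nrm] at h2
  simp only [smul_eq_mul] at h1 h2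
  have e1 : a * 2 + b * t = 0 := mul_right_cancel₀ hu (by linear_combination h1)
  have e2 : a * t + b * 2 * n = 0 := mul_right_cancel₀ hu (by linear_combination h2)
  have e3 : b * (t * t - 4 * n) = 0 := by linear_combination t * e1 - 2 * e2
  have hb : b = 0 := (mul_eq_zero.1 e3).resolve_right h.disc
  have e4 : a * (t * t - 4 * n) = 0 := by linear_combination t * e2 - 2 * n * e1
  exact ⟨(mul_eq_zero.1 e4).resolve_right h.disc, hb⟩

/-- projection onto the complement of the line -/
theorem Hm.exists_proj {u : V} (hu : Q u ≠ 0) (v : V) :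
    ∃ a b : F, polar Q u (v - (a • u + b • θ u)) = 0 ∧ polar Q (θ u) (v - (a • u + b • θ u)) = 0 := by
  have hd := h.disc
  refine ⟨(t * polar Q (θ u) v - 2 * n * polar Q u v) / ((t * t - 4 * n) * Q u),
    (t * polar Q u v - 2 * polar Q (θ u) v) / ((t * t - 4 * n) * Q u), ?_, ?_⟩
  · rw [polar_sub_right, polar_add_right, polar_smul_right, polar_smul_right, polar_self', h.tr']
    simp only [smul_eq_mul]
    have e : ∀ D : F, D ≠ 0 → polar Q u v * D - ((t * polar Q (θ u) v - 2 * n * polar Q u v) * 2 +
        (t * polar Q u v - 2 * polar Q (θ u) v) * t) = 0 →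
        polar Q u v - ((t * polar Q (θ u) v - 2 * n * polar Q u v) / (D * Q u) * (2 * Q u) +
          (t * polar Q u v - 2 * polar Q (θ u) v) / (D * Q u) * (t * Q u)) = 0 := by
      intro D hD he
      field_simp
      linear_combination he
    exact e _ hd (by ring)
  · rw [polar_sub_right, polar_add_right, polar_smul_right, polar_smul_right, polar_self', h.tr, h.nrm]
    simp only [smul_eq_mul]
    have e : ∀ D : F, D ≠ 0 → polar Q (θ u) v * D - ((t * polar Q (θ u) v - 2 * n * polar Q u v) * t +
        (t * polar Q u v - 2 * polar Q (θ u) v) * (2 * n)) = 0 →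
        polar Q (θ u) v - ((t * polar Q (θ u) v - 2 * n * polar Q u v) / (D * Q u) * (t * Q u) +
          (t * polar Q u v - 2 * polar Q (θ u) v) / (D * Q u) * (2 * (n * Q u))) = 0 := by
      intro D hD he
      field_simp
      linear_combination he
    exact e _ hd (by ring)

/-- a vector of given norm in the complement of the line of `u` -/
theorem Hm.exists_perp [Finite F] (hQ : Nondeg Q) (hd : 3 ≤ finrank F V) {u : V} (hu : Q u ≠ 0) (c : F) :
    ∃ w : V, polar Q u w = 0 ∧ polar Q (θ u) w = 0 ∧ Q w = c := by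
  have h1 : ∃ w, polar Q u w = 0 ∧ polar Q (θ u) w = 0 ∧ Q w ≠ 0 := by
    by_contra hcon
    push Not at hcon
    obtain ⟨w, hw0, hw⟩ := exists_perp_ne (Q := Q) ![u, θ u] (by omega)
    have hwu : polar Q u w = 0 := hw 0
    have hwt : polar Q (θ u) w = 0 := hw 1
    obtain ⟨y, hy⟩ := hQ.exists_polar_ne hw0
    apply hy
    obtain ⟨a, b, e1, e2⟩ := h.exists_proj hu y
    set y' := y - (a • u + b • θ u) with hy'
    have e3 : y = y' + (a • u + b • θ u) := by rw [hy', sub_add_cancel]
    rw [e3, polar_add_right, polar_add_right, polar_smul_right, polar_smul_right, polar_comm Q w u,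
      polar_comm Q w (θ u), hwu, hwt, smul_zero, smul_zero, add_zero, add_zero, polar,
      hcon (w + y') (by rw [polar_add_right, hwu, e1, add_zero]) (by rw [polar_add_right, hwt, e2, add_zero]),
      hcon w hwu hwt, hcon y' e1 e2, sub_zero, sub_zero]
  obtain ⟨w, hwu, hwt, hw⟩ := h1
  obtain ⟨a, b, hab⟩ := h.exists_norm hw c
  refine ⟨a • w + b • θ w, ?_, ?_, hab⟩
  · rw [polar_add_right, polar_smul_right, polar_smul_right, h.adj, hwu, hwt]
    simp
  · rw [polar_add_right, polar_smul_right, polar_smul_right, h.pol, hwu, hwt]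
    simp

omit h in
theorem Hm.exists_nonsing (hQ : Nondeg Q) (hd : 1 ≤ finrank F V) : ∃ u : V, Q u ≠ 0 := by
  by_contra hcon
  push Not at hcon
  have hnt : Nontrivial V := Module.nontrivial_of_finrank_pos (R := F) (by omega)
  obtain ⟨u, hu⟩ := exists_ne (0 : V)
  obtain ⟨y, hy⟩ := hQ.exists_polar_ne hu
  apply hy
  rw [polar, hcon, hcon, hcon, sub_zero, sub_zero]

end

/-- four commuting involutions -/
theorem inv4 {G : Type*} [Group G] {a b c d : G} (ha : a * a = 1) (hb : b * b = 1) (hc : c * c = 1) (hd : d * d = 1)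
    (hab : a * b = b * a) (hac : a * c = c * a) (had : a * d = d * a) (hbc : b * c = c * b) (hbd : b * d = d * b)
    (hcd : c * d = d * c) : a * b * (c * d) * (a * b * (c * d)) = 1 := by
  have cab : Commute a b := hab
  have ccd : Commute c d := hcd
  have h1 : Commute (a * b) (c * d) :=
    (Commute.mul_right hac had).mul_left (Commute.mul_right hbc hbd)
  have h2 : (a * b) * (a * b) = 1 := by
    calc (a * b) * (a * b) = a * (b * a) * b := by group
      _ = a * (a * b) * b := by rw [hab]
      _ = (a * a) * (b * b) := by group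
      _ = 1 := by rw [ha, hb, one_mul]
  have h3 : (c * d) * (c * d) = 1 := by
    calc (c * d) * (c * d) = c * (d * c) * d := by group
      _ = c * (c * d) * d := by rw [hcd]
      _ = (c * c) * (d * d) := by group
      _ = 1 := by rw [hc, hd, one_mul]
  calc a * b * (c * d) * (a * b * (c * d)) = (a * b) * ((c * d) * (a * b)) * (c * d) := by group
    _ = (a * b) * ((a * b) * (c * d)) * (c * d) := by rw [h1.eq]
    _ = ((a * b) * (a * b)) * ((c * d) * (c * d)) := by group
    _ = 1 := by rw [h2, h3, one_mul]

section main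

variable {Q : QuadraticForm F V} {θ : Module.End F V} {t n : F}

/-- **An involution of `Ω(V)` commuting with `θ`.** -/
theorem Hm.exists_invol [Finite F] (hG : Good Q) (h : Hm Q θ t n) :
    ∃ x ∈ E Q, x * x = 1 ∧ (¬ ∃ c : F, ∀ v : V, x v = c • v) ∧ ∀ v, x (θ v) = θ (x v) := by
  have hdim : 5 ≤ finrank F V := hG.dim
  have : FiniteDimensional F V := Module.finite_of_finrank_pos (by omega)
  obtain ⟨u, hu⟩ := Hm.exists_nonsing hG.nondeg (by omega)
  obtain ⟨w, huw, htw, hw⟩ := h.exists_perp hG.nondeg (by omega) hu (Q u)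
  have hw0 : Q w ≠ 0 := by rw [hw]; exact hu
  have hut : polar Q u (θ w) = 0 := by rw [h.adj, huw, htw, mul_zero, sub_zero]
  have htt : polar Q (θ u) (θ w) = 0 := by rw [h.pol, huw, mul_zero]
  by_cases h2 : (2 : F) = 0
  · -- characteristic two: a long root element
    have hm : ∀ v : V, v + v = 0 := by
      intro v
      rw [← two_smul F v, h2, zero_smul]
    have hz : Q (u + w) = 0 := by
      rw [Q_add, huw, add_zero, hw]
      have : Q u + Q u = 2 * Q u := by ring
      rw [this, h2, zero_mul]
    have hzt : Q (θ (u + w)) = 0 := by rw [h.nrm, hz, mul_zero]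
    have hzp : polar Q (u + w) (θ (u + w)) = 0 := by rw [h.tr', hz, mul_zero]
    refine ⟨siegel Q (u + w) (θ (u + w)) hz hzp, siegel_mem_E hz hzp, ?_, ?_, ?_⟩
    · apply LinearEquiv.ext
      intro v
      have e1 : siegel Q (u + w) (θ (u + w)) hz hzp * siegel Q (u + w) (θ (u + w)) hz hzp =
          siegel Q (u + w) (θ (u + w) + θ (u + w)) hz (by rw [polar_add_right, hzp, add_zero]) := siegel_mul hz hzp hzp _
      rw [e1, siegel_apply]
      rw [hm]
      simp
    · rintro ⟨c, hc⟩
      obtain ⟨y, hy0, hy⟩ := exists_perp_ne (Q := Q) ![u + w, θ (u + w)] (by omega)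
      have hy1 : polar Q (u + w) y = 0 := hy 0
      have hy2 : polar Q (θ (u + w)) y = 0 := hy 1
      have h3 := hc y
      rw [siegel_apply, hy1, hy2] at h3
      simp only [zero_smul, mul_zero, add_zero, sub_zero] at h3
      have h4 : c = 1 := by
        have h5 : (c - 1) • y = 0 := by rw [sub_smul, one_smul, ← h3, sub_self]
        exact sub_eq_zero.1 ((smul_eq_zero.1 h5).resolve_right hy0)
      have h5 := hc (θ u)
      have e1 : polar Q (u + w) (θ u) = t * Q u := by
        rw [polar_add_left, h.tr', polar_comm Q w, htw, add_zero]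
      have e2 : polar Q (θ (u + w)) (θ u) = 0 := by
        rw [map_add, polar_add_left, polar_comm Q (θ w), htt, add_zero, polar_self', h2, zero_mul]
      rw [siegel_apply, e1, e2, hzt, h4] at h5
      simp only [zero_smul, mul_zero, zero_mul, sub_zero, one_smul] at h5
      have h6 : (t * Q u) • θ (u + w) = 0 := by
        have := sub_eq_zero.2 h5
        rwa [add_sub_cancel_left] at this
      have ht : t ≠ 0 := by
        intro ht
        apply h.disc
        have : (4 : F) = 2 * 2 := by norm_num
        rw [ht, this, h2]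
        ring
      have h7 := (smul_eq_zero.1 h6).resolve_left (mul_ne_zero ht hu)
      have h8 : polar Q (θ (u + w)) u = t * Q u := by
        rw [map_add, polar_add_left, h.tr, polar_comm Q (θ w), hut, add_zero]
      rw [h7, polar_zero_left] at h8
      exact mul_ne_zero ht hu h8.symm
    · intro v
      have hzt' := hzt
      have hadj := h.adj (u + w) v
      have hpol := h.pol (u + w) v
      have hsq := h.sq (u + w)
      rw [siegel_apply, siegel_apply, hzt]
      generalize u + w = z at *
      simp only [zero_mul, zero_smul, sub_zero]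
      rw [LinearMap.map_sub θ, LinearMap.map_add θ, LinearMap.map_smul θ, LinearMap.map_smul θ, hsq, hadj, hpol]
      module
  · -- odd characteristic
    have hs : ∀ z : V, Q (2 • θ z - t • z) = -(t * t - 4 * n) * Q z := by
      intro z
      have e1 : 2 • θ z - t • z = (-t) • z + (2 : F) • θ z := by
        rw [neg_smul, two_smul F, two_smul ℕ]
        abel
      rw [e1, h.comb]
      ring
    have hu' : Q (2 • θ u - t • u) ≠ 0 := by
      rw [hs]
      exact mul_ne_zero (neg_ne_zero.2 h.disc) hu
    have hw' : Q (2 • θ w - t • w) ≠ 0 := by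
      rw [hs]
      exact mul_ne_zero (neg_ne_zero.2 h.disc) hw0
    have hself : ∀ z : V, polar Q z (2 • θ z - t • z) = 0 := by
      intro z
      rw [polar_sub_right, two_smul ℕ, polar_add_right, polar_smul_right, polar_self', h.tr', smul_eq_mul]
      ring
    have h1 : polar Q u (2 • θ w - t • w) = 0 := by
      rw [polar_sub_right, two_smul ℕ, polar_add_right, polar_smul_right, hut, huw]
      simp
    have h1' : polar Q (θ u) (2 • θ w - t • w) = 0 := by
      rw [polar_sub_right, two_smul ℕ, polar_add_right, polar_smul_right, htt, htw]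
      simp
    have h3 : polar Q w (2 • θ u - t • u) = 0 := by
      rw [polar_sub_right, two_smul ℕ, polar_add_right, polar_smul_right, polar_comm Q w (θ u), htw,
        polar_comm Q w u, huw]
      simp
    have h4 : polar Q (2 • θ u - t • u) (2 • θ w - t • w) = 0 := by
      rw [polar_sub_left, two_smul ℕ, polar_add_left, polar_smul_left, h1, h1']
      simp
    have h5 : polar Q (2 • θ u - t • u) w = 0 := by rw [polar_comm, h3]
    have m1 : refl Q u hu * refl Q w hw0 ∈ E Q := hG.refl_mul_refl_mem hw0 hu hw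
    have m2 : refl Q _ hu' * refl Q _ hw' ∈ E Q := hG.refl_mul_refl_mem hw' hu' (by rw [hs, hs, hw])
    -- the projection formula
    have hP : ∀ (z : V) (hz : Q z ≠ 0) (v : V),
        θ (((Q z)⁻¹ * polar Q z v) • z + ((Q (2 • θ z - t • z))⁻¹ * polar Q (2 • θ z - t • z) v) • (2 • θ z - t • z)) =
          ((Q z)⁻¹ * polar Q z (θ v)) • z +
            ((Q (2 • θ z - t • z))⁻¹ * polar Q (2 • θ z - t • z) (θ v)) • (2 • θ z - t • z) := by
      intro z hz v
      have e2 : ∀ v, polar Q (2 • θ z - t • z) v = 2 * polar Q (θ z) v - t * polar Q z v := by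
        intro v
        rw [polar_sub_left, two_smul ℕ, polar_add_left, polar_smul_left, smul_eq_mul]
        ring
      have e3 : 2 • θ z - t • z = (2 : F) • θ z - t • z := by rw [two_smul F, two_smul ℕ]
      rw [e2, e2, hs, h.adj, h.pol, e3]
      simp only [map_add, map_smul, map_sub, h.sq]
      have hd := h.disc
      have hA : (t * t - 4 * n) * (t * t - 4 * n)⁻¹ = 1 := mul_inv_cancel₀ hd
      have e4 : (-(t * t - 4 * n) * Q z)⁻¹ = -((t * t - 4 * n)⁻¹ * (Q z)⁻¹) := by
        rw [mul_inv, inv_neg]
        ring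
      rw [e4]
      set D := (t * t - 4 * n)⁻¹ with hD
      set q := (Q z)⁻¹ with hq
      set a := polar Q z v with ha
      set b := polar Q (θ z) v with hb
      have k1 : q * a = q * a * ((t * t - 4 * n) * D) := by rw [hA, mul_one]
      have k2 : q * (t * a - b) = q * (t * a - b) * ((t * t - 4 * n) * D) := by rw [hA, mul_one]
      rw [k1, k2]
      module
    refine ⟨refl Q u hu * refl Q w hw0 * (refl Q _ hu' * refl Q _ hw'), mul_mem m1 m2, ?_, ?_, ?_⟩
    · exact inv4 (refl_mul_self _) (refl_mul_self _) (refl_mul_self _) (refl_mul_self _) (refl_comm _ _ huw)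
        (refl_comm _ _ (hself u)) (refl_comm _ _ h1) (refl_comm _ _ h3) (refl_comm _ _ (hself w)) (refl_comm _ _ h4)
    · rintro ⟨c, hc⟩
      obtain ⟨y, hy0, hy⟩ := exists_perp_ne (Q := Q) ![u, w, 2 • θ u - t • u, 2 • θ w - t • w] (by omega)
      have hy1 : polar Q u y = 0 := hy 0
      have hy2 : polar Q w y = 0 := hy 1
      have hy3 : polar Q (2 • θ u - t • u) y = 0 := hy 2
      have hy4 : polar Q (2 • θ w - t • w) y = 0 := hy 3
      have e1 : (refl Q u hu * refl Q w hw0 * (refl Q _ hu' * refl Q _ hw')) y = y := by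
        show refl Q u hu (refl Q w hw0 (refl Q _ hu' (refl Q _ hw' y))) = y
        rw [refl_apply hw', hy4, mul_zero, zero_smul, sub_zero, refl_apply hu', hy3, mul_zero, zero_smul, sub_zero,
          refl_apply hw0, hy2, mul_zero, zero_smul, sub_zero, refl_apply hu, hy1, mul_zero, zero_smul, sub_zero]
      have e2 : (refl Q u hu * refl Q w hw0 * (refl Q _ hu' * refl Q _ hw')) u = -u := by
        show refl Q u hu (refl Q w hw0 (refl Q _ hu' (refl Q _ hw' u))) = -u
        rw [refl_apply hw', polar_comm Q _ u, h1, mul_zero, zero_smul, sub_zero, refl_apply hu', polar_comm Q _ u,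
          hself, mul_zero, zero_smul, sub_zero, refl_apply hw0, polar_comm Q w u, huw, mul_zero, zero_smul, sub_zero,
          refl_apply hu, polar_self', mul_comm 2, inv_mul_cancel_left₀ hu, two_smul]
        abel
      rw [hc] at e1 e2
      have e3 : c = 1 := by
        have h5 : (c - 1) • y = 0 := by rw [sub_smul, one_smul, e1, sub_self]
        exact sub_eq_zero.1 ((smul_eq_zero.1 h5).resolve_right hy0)
      rw [e3, one_smul] at e2
      have e4 : (2 : F) • u = 0 := by rw [two_smul]; nth_rewrite 1 [e2]; exact neg_add_cancel u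
      rcases smul_eq_zero.1 e4 with e5 | e5
      · exact h2 e5
      · exact hu (by rw [e5, QuadraticMap.map_zero])
    · have key : ∀ v, (refl Q u hu * refl Q w hw0 * (refl Q _ hu' * refl Q _ hw')) v =
          v - (((Q w)⁻¹ * polar Q w v) • w +
              ((Q (2 • θ w - t • w))⁻¹ * polar Q (2 • θ w - t • w) v) • (2 • θ w - t • w)) -
            (((Q u)⁻¹ * polar Q u v) • u +
              ((Q (2 • θ u - t • u))⁻¹ * polar Q (2 • θ u - t • u) v) • (2 • θ u - t • u)) := by
        intro v
        show refl Q u hu (refl Q w hw0 (refl Q _ hu' (refl Q _ hw' v))) = _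
        rw [refl_apply hw', refl_apply hu', refl_apply hw0, refl_apply hu]
        simp only [polar_sub_right, polar_smul_right, h1, hself, h3, h4, h5, huw, smul_zero, sub_zero]
        abel
      intro v
      rw [key, key, LinearMap.map_sub θ, LinearMap.map_sub θ, hP u hu, hP w hw0]

/-- **`E Q` does not normalise `F[θ]`.** -/
theorem Hm.not_norm [Finite F] (hG : Good Q) (h : Hm Q θ t n)
    (hN : ∀ g ∈ E Q, ∃ a b : F, ∀ v, g (θ v) = a • g v + b • θ (g v)) : False := by
  have hdim : 5 ≤ finrank F V := hG.dim
  have : FiniteDimensional F V := Module.finite_of_finrank_pos (by omega)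
  obtain ⟨x, hx, -, hns, hxc⟩ := h.exists_invol hG
  let K : Subgroup (V ≃ₗ[F] V) :=
    { carrier := {g | g ∈ E Q ∧ ∀ v, g (θ v) = θ (g v)}
      one_mem' := ⟨one_mem _, fun _ => rfl⟩
      mul_mem' := by
        rintro a b ⟨ha, ha'⟩ ⟨hb, hb'⟩
        refine ⟨mul_mem ha hb, fun v => ?_⟩
        show a (b (θ v)) = θ (a (b v))
        rw [hb', ha']
      inv_mem' := by
        rintro a ⟨ha, ha'⟩
        refine ⟨inv_mem ha, fun v => ?_⟩
        apply a.injective
        rw [ha']
        show a (a.symm (θ v)) = θ (a (a.symm v))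
        rw [LinearEquiv.apply_symm_apply, LinearEquiv.apply_symm_apply] }
  have hK : ∀ g ∈ E Q, ∀ k ∈ K, g * k * g⁻¹ ∈ K := by
    rintro g hg k ⟨hk, hk'⟩
    refine ⟨mul_mem (mul_mem hg hk) (inv_mem hg), fun v => ?_⟩
    obtain ⟨a, b, hab⟩ := hN g hg
    obtain ⟨y, rfl⟩ := g.surjective v
    have h4 : ∀ z : V, g⁻¹ (g z) = z := fun z => LinearEquiv.symm_apply_apply g z
    have h5 : ∀ z : V, g (g⁻¹ z) = z := fun z => LinearEquiv.apply_symm_apply g z
    obtain ⟨a', b', hab'⟩ := hN g⁻¹ (inv_mem hg)
    have h6 := hab' (g y)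
    rw [h4] at h6
    show g (k (g⁻¹ (θ (g y)))) = θ (g (k (g⁻¹ (g y))))
    rw [h6, h4, map_add, map_smul, map_smul, hk']
    -- apply g⁻¹
    apply g⁻¹.injective
    rw [h4, hab' (g (k y)), h4]
  rcases good_normal_dichotomy hG (N := K) (fun g hg => hg.1) hK with h2 | h2
  · exact hns (h2 _ ⟨hx, hxc⟩)
  · obtain ⟨u, hu⟩ := Hm.exists_nonsing hG.nondeg (by omega)
    -- a vector `a ⊥ u`, not orthogonal to `θ u`, nonsingular
    obtain ⟨a, ha1, ha2, ha3⟩ : ∃ a, polar Q u a = 0 ∧ polar Q a (θ u) ≠ 0 ∧ Q a ≠ 0 := by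
      by_cases hc : (2 : F) = 0
      · refine ⟨u, ?_, ?_, hu⟩
        · rw [polar_self', hc, zero_mul]
        · rw [h.tr']
          refine mul_ne_zero ?_ hu
          intro ht
          apply h.disc
          have : (4 : F) = 2 * 2 := by norm_num
          rw [ht, this, hc]
          ring
      · refine ⟨(-t) • u + (2 : F) • θ u, ?_, ?_, ?_⟩
        · rw [polar_add_right, polar_smul_right, polar_smul_right, polar_self', h.tr']
          simp only [smul_eq_mul]
          ring
        · rw [polar_add_left, polar_smul_left, polar_smul_left, polar_self', h.tr', h.nrm]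
          have : (-t) • (t * Q u) + (2 : F) • (2 * (n * Q u)) = -((t * t - 4 * n) * Q u) := by
            simp only [smul_eq_mul]
            ring
          rw [this]
          exact neg_ne_zero.2 (mul_ne_zero h.disc hu)
        · rw [h.comb]
          have : (-t) * (-t) + t * (-t) * 2 + n * 2 * 2 = -(t * t - 4 * n) := by ring
          rw [this]
          exact mul_ne_zero (neg_ne_zero.2 h.disc) hu
    obtain ⟨b, hb1, hb2, hb3⟩ := h.exists_perp hG.nondeg (by omega) hu (Q a)
    have hb0 : Q b ≠ 0 := by rw [hb3]; exact ha3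
    have hg : refl Q b hb0 * refl Q a ha3 ∈ E Q := hG.refl_mul_refl_mem ha3 hb0 hb3.symm
    have hg' : refl Q b hb0 * refl Q a ha3 ∈ K := by rw [h2]; exact hg
    have e1 := hg'.2 u
    have e2 : (refl Q b hb0 * refl Q a ha3) u = u := by
      show refl Q b hb0 (refl Q a ha3 u) = u
      rw [refl_apply ha3, polar_comm Q a, ha1, mul_zero, zero_smul, sub_zero, refl_apply hb0, polar_comm Q b, hb1,
        mul_zero, zero_smul, sub_zero]
    rw [e2] at e1
    have e3 : refl Q b hb0 (refl Q a ha3 (θ u)) = θ u := e1
    have e4 : refl Q a ha3 (θ u) = θ u := by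
      apply (refl Q b hb0).injective
      rw [e3, refl_apply hb0, polar_comm Q b, hb2, mul_zero, zero_smul, sub_zero]
    rw [refl_apply ha3, sub_eq_self] at e4
    rcases smul_eq_zero.1 e4 with e5 | e5
    · rcases mul_eq_zero.1 e5 with e6 | e6
      · exact ha3 (inv_eq_zero.1 e6)
      · exact ha2 e6
    · exact ha3 (by rw [e5, QuadraticMap.map_zero])

end main

end Cfsg.Agent.H103.IFO
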